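import Cfsg.Agent.H557.Bs.Glue

/-! # S5733, BS26: elementary facts about hermitian spaces -/

set_option autoImplicit false
set_option linter.unusedSectionVars false
set_option linter.style.haveILetI false

namespace Cfsg.Agent.H557.Bs

open Cfsg.Agent.H847.Bs

section Field

variable {F : Type*} [Field F] [Finite F] {r : ℕ}

theorem two_le_of_card (hc : Nat.card F = r ^ 2) : 2 ≤ r := by
  have h1 : 1 < Nat.card F := Finite.one_lt_card
  rw [hc] at h1
  by_contra h
  interval_cases r <;> simp at h1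

theorem add_pow_r (hc : Nat.card F = r ^ 2) (a b : F) : (a + b) ^ r = a ^ r + b ^ r := by
  have := Fintype.ofFinite F
  obtain ⟨p, hp⟩ := CharP.exists F
  haveI := hp
  obtain ⟨n, hpp, hn⟩ := FiniteField.card F p
  haveI : Fact p.Prime := ⟨hpp⟩
  have h1 : r ∣ p ^ (n : ℕ) := by
    rw [← hn, ← Nat.card_eq_fintype_card, hc]
    exact Dvd.intro_left _ (by ring)
  obtain ⟨m, -, hm⟩ := (Nat.dvd_prime_pow hpp).1 h1
  rw [hm]
  exact add_pow_char_pow a b p m

theorem pow_r_pow_r (hc : Nat.card F = r ^ 2) (a : F) : (a ^ r) ^ r = a := by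
  haveI := Fintype.ofFinite F
  rw [← pow_mul, ← sq, ← hc, Nat.card_eq_fintype_card, FiniteField.pow_card]

/-- the automorphism `a ↦ a ^ r` -/
noncomputable def sig (hc : Nat.card F = r ^ 2) : F →+* F where
  toFun a := a ^ r
  map_one' := one_pow r
  map_mul' a b := mul_pow a b r
  map_zero' := zero_pow (by have := two_le_of_card hc; omega)
  map_add' := add_pow_r hc

theorem card_units (hc : Nat.card F = r ^ 2) : Nat.card Fˣ = (r - 1) * (r + 1) := by
  have h2 := two_le_of_card hc
  rw [Nat.card_units, hc]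
  obtain ⟨k, rfl⟩ : ∃ k, r = k + 1 := ⟨r - 1, by omega⟩
  simp only [Nat.add_sub_cancel]
  have : (k + 1) ^ 2 = k * (k + 1 + 1) + 1 := by ring
  omega

theorem exists_pow_ne (hc : Nat.card F = r ^ 2) : ∃ a : F, a ^ r ≠ a := by
  have h2 := two_le_of_card hc
  by_contra! h
  obtain ⟨ζ, hζ⟩ := IsCyclic.exists_ofOrder_eq_natCard (α := Fˣ)
  have h3 : ζ ^ r = ζ := Units.ext (by simpa using h ζ)
  have h4 : ζ ^ (r - 1) = 1 := by
    have h5 : ζ ^ (r - 1) * ζ = 1 * ζ := by
      rw [← pow_succ, Nat.sub_add_cancel (by omega), h3, one_mul]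
    exact mul_right_cancel h5
  have h5 := Nat.le_of_dvd (by omega) (orderOf_dvd_of_pow_eq_one h4)
  rw [hζ, card_units hc] at h5
  have h6 : (r - 1) * 3 ≤ (r - 1) * (r + 1) := Nat.mul_le_mul_left _ (by omega)
  omega

/-- there are at least `r + 1` elements of norm one -/
theorem card_mu (hc : Nat.card F = r ^ 2) : r + 1 ≤ Nat.card {κ : F // κ ^ (r + 1) = 1} := by
  have h2 := two_le_of_card hc
  obtain ⟨ζ, hζ⟩ := IsCyclic.exists_ofOrder_eq_natCard (α := Fˣ)
  have hu := card_units hc
  have ho : orderOf (ζ ^ (r - 1)) = r + 1 := by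
    rw [orderOf_pow_of_dvd (by omega) (by rw [hζ, hu]; exact Dvd.intro _ rfl), hζ, hu,
      Nat.mul_div_cancel_left _ (by omega)]
  have hk : ∀ k : Subgroup.zpowers (ζ ^ (r - 1)), ((k : Fˣ) : F) ^ (r + 1) = 1 := by
    intro k
    have h1 : (k : Fˣ) ^ (r + 1) = 1 := by
      rw [← ho]
      exact orderOf_dvd_iff_pow_eq_one.1 (orderOf_dvd_of_mem_zpowers k.2)
    have := congrArg Units.val h1
    simpa using this
  calc r + 1 = Nat.card (Subgroup.zpowers (ζ ^ (r - 1))) := by rw [Nat.card_zpowers, ho]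
    _ ≤ _ := Nat.card_le_card_of_injective (fun k => ⟨((k : Fˣ) : F), hk k⟩) (by
      intro a b hab
      have h1 := congrArg Subtype.val hab
      exact Subtype.ext (Units.ext h1))

end Field

section Herm

variable {F V : Type*} [Field F] [Finite F] [AddCommGroup V] [Module F V] [Module.Finite F V]
  {Φ : Frm F V} {r : ℕ}

theorem IsHerm.on (hΦ : IsHerm r Φ) {D : Submodule F V} (h : (Φ.on D).Nd) : IsHerm r (Φ.on D) where
  nd := h
  card := hΦ.card
  s := hΦ.s
  q x := hΦ.q x
  symm x y := hΦ.symm x y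

/-- the functional `B(·, y)` -/
def fn (Φ : Frm F V) (y : V) : V →ₗ[F] F where
  toFun x := Φ.B x y
  map_add' x x' := Φ.add_left x x' y
  map_smul' a x := Φ.smul_left a x y

/-- the orthogonal complement -/
def perp (Φ : Frm F V) (Y : Submodule F V) : Submodule F V where
  carrier := {x | ∀ y ∈ Y, Φ.B x y = 0}
  zero_mem' y _ := B_zero_left Φ y
  add_mem' := by
    intro a b ha hb y hy
    rw [Φ.add_left, ha y hy, hb y hy, add_zero]
  smul_mem' := by
    intro c a ha y hy
    rw [Φ.smul_left, ha y hy, mul_zero]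

theorem B_sum_left (Φ : Frm F V) {ι : Type*} (s : Finset ι) (f : ι → V) (y : V) :
    Φ.B (∑ i ∈ s, f i) y = ∑ i ∈ s, Φ.B (f i) y := map_sum (fn Φ y) f s

theorem B_zero_right (Φ : Frm F V) (x : V) : Φ.B x 0 = 0 := Φ.refl _ _ (B_zero_left Φ x)

theorem B_sum_right (Φ : Frm F V) {ι : Type*} (s : Finset ι) (f : ι → V) (x : V) :
    Φ.B x (∑ i ∈ s, f i) = ∑ i ∈ s, Φ.B x (f i) := by
  let g : V →+ F := ⟨⟨fun y => Φ.B x y, B_zero_right Φ x⟩, fun y z => Φ.add_right x y z⟩
  exact map_sum g f s

theorem finrank_perp (hΦ : IsHerm r Φ) (Y : Submodule F V) :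
    Module.finrank F Y + Module.finrank F (perp Φ Y) = Module.finrank F V := by
  let b := Module.finBasis F Y
  let f : Fin (Module.finrank F Y) → Module.Dual F V := fun i => fn Φ (b i)
  have hli : LinearIndependent F f := by
    rw [Fintype.linearIndependent_iff]
    intro c hc
    have h1 : (∑ i, (c i) ^ r • (b i : V)) = 0 := by
      apply hΦ.nd
      intro y
      apply Φ.refl
      rw [B_sum_right]
      have := LinearMap.congr_fun hc y
      simp only [LinearMap.sum_apply, LinearMap.smul_apply, LinearMap.zero_apply, smul_eq_mul] at this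
      rw [← this]
      refine Finset.sum_congr rfl fun i _ => ?_
      rw [Φ.smul_right, hΦ.s, pow_r_pow_r hΦ.card]; rfl
    have h2 : (∑ i, (c i) ^ r • b i) = 0 := by
      apply Subtype.ext
      simpa using h1
    have h3 := Fintype.linearIndependent_iff.1 b.linearIndependent _ h2
    intro i
    exact pow_eq_zero_iff (by have := two_le_of_card hΦ.card; omega) |>.1 (h3 i)
  have h4 : (Submodule.span F (Set.range f)).dualCoannihilator = perp Φ Y := by
    ext x
    rw [Submodule.mem_dualCoannihilator]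
    constructor
    · intro h y hy
      have h5 : (⟨y, hy⟩ : Y) = ∑ i, b.repr ⟨y, hy⟩ i • b i := (b.sum_repr _).symm
      have h6 : y = ∑ i, b.repr ⟨y, hy⟩ i • (b i : V) := by
        have := congrArg (fun z : Y => (z : V)) h5
        simpa only [AddSubmonoidClass.coe_finsetSum, Submodule.coe_smul] using this
      rw [h6, B_sum_right]
      refine Finset.sum_eq_zero fun i _ => ?_
      have h7 : Φ.B x (b i) = 0 := h (f i) (Submodule.subset_span ⟨i, rfl⟩)
      rw [Φ.smul_right, h7, mul_zero]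
    · intro h φ hφ
      induction hφ using Submodule.span_induction with
      | mem φ hφ => obtain ⟨i, rfl⟩ := hφ; exact h _ (b i).2
      | zero => rfl
      | add φ ψ _ _ h1 h2 => rw [LinearMap.add_apply, h1, h2, add_zero]
      | smul a φ _ h1 => rw [LinearMap.smul_apply, h1, smul_zero]
  have h5 := Subspace.finrank_add_finrank_dualCoannihilator_eq (Submodule.span F (Set.range f))
  rw [h4, finrank_span_eq_card hli, Fintype.card_fin] at h5
  exact h5

theorem inv_perp {g : V ≃ₗ[F] V} (hg : g ∈ Φ.Iso) {Y : Submodule F V} (h : Inv g Y) :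
    Inv g (perp Φ Y) := by
  intro x hx y hy
  have h1 := hg.1 x (g⁻¹ y)
  have h2 : g (g⁻¹ y) = y := g.apply_symm_apply y
  rw [h2] at h1
  rw [h1]
  exact hx _ (Inv.inv h y hy)

theorem dec_perp (hΦ : IsHerm r Φ) {W : Submodule F V} (hW : Φ.NdOn W) : Φ.Dec W (perp Φ W) := by
  have hd : Disjoint W (perp Φ W) := by
    rw [Submodule.disjoint_def]
    intro x hx hx'
    exact hW x hx hx'
  refine ⟨⟨hd, ?_⟩, fun x hx y hy => Φ.refl _ _ (hy x hx)⟩
  rw [codisjoint_iff]
  apply Submodule.eq_top_of_finrank_eq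
  have h1 := Submodule.finrank_sup_add_finrank_inf_eq W (perp Φ W)
  rw [hd.eq_bot, finrank_bot, add_zero] at h1
  rw [h1, finrank_perp hΦ]

/-- a nonzero hermitian space contains an anisotropic vector -/
theorem exists_aniso (hΦ : IsHerm r Φ) (h : 0 < Module.finrank F V) : ∃ w : V, Φ.B w w ≠ 0 := by
  by_contra! h0
  haveI : Nontrivial V := Module.nontrivial_of_finrank_pos h
  obtain ⟨x, hx⟩ := exists_ne (0 : V)
  have h1 : ∃ y, Φ.B x y ≠ 0 := by
    by_contra! h1
    exact hx (hΦ.nd x h1)
  obtain ⟨y, hy⟩ := h1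
  have h2 : ∀ a : F, a * Φ.B x y + (a * Φ.B x y) ^ r = 0 := by
    intro a
    have h3 := h0 (a • x + y)
    rw [Φ.add_left, Φ.add_right, Φ.add_right, h0, h0, zero_add, add_zero, hΦ.symm (a • x) y,
      Φ.smul_left] at h3
    exact h3
  obtain ⟨a, ha⟩ := exists_pow_ne hΦ.card
  have h3 := h2 1
  have h4 := h2 a
  rw [one_mul] at h3
  rw [mul_pow] at h4
  have h5 : (Φ.B x y) ^ r = - Φ.B x y := by linear_combination h3
  rw [h5] at h4
  apply ha
  have h6 : (a ^ r - a) * Φ.B x y = 0 := by linear_combination -h4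
  rcases mul_eq_zero.1 h6 with h7 | h7
  · exact sub_eq_zero.1 h7
  · exact absurd h7 hy

theorem nd_on_iff {W : Submodule F V} : (Φ.on W).Nd ↔ Φ.NdOn W := by
  constructor
  · intro h x hx hy
    have := h ⟨x, hx⟩ (fun y => hy y y.2)
    exact congrArg Subtype.val this
  · intro h x hx
    exact Subtype.ext (h x x.2 (fun y hy => hx ⟨y, hy⟩))

/-- nondegenerate subspaces of every dimension -/
theorem exists_ndOn (hΦ : IsHerm r Φ) : ∀ s : ℕ, s ≤ Module.finrank F V →
    ∃ W : Submodule F V, Φ.NdOn W ∧ Module.finrank F W = s := by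
  intro s
  induction s with
  | zero =>
    intro _
    refine ⟨⊥, fun x hx _ => by simpa using hx, finrank_bot F V⟩
  | succ s ih =>
    intro hs
    obtain ⟨W, hW, hWs⟩ := ih (by omega)
    have hdec := dec_perp hΦ hW
    have hnd := dec_nd_right hΦ.nd hdec
    have hh := IsHerm.on hΦ hnd
    have hf := finrank_perp hΦ W
    obtain ⟨u, hu⟩ := exists_aniso hh (by omega)
    have hu' : Φ.B u u ≠ 0 := hu
    have hu0 : (u : V) ≠ 0 := by
      intro h
      rw [h, B_zero_left] at hu'
      exact hu' rfl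
    have huW : ∀ w ∈ W, Φ.B u w = 0 := u.2
    refine ⟨W ⊔ Submodule.span F {(u : V)}, ?_, ?_⟩
    · intro x hx hy
      obtain ⟨w, hw, v, hv, rfl⟩ := Submodule.mem_sup.1 hx
      obtain ⟨a, rfl⟩ := Submodule.mem_span_singleton.1 hv
      have h1 : w = 0 := by
        apply hW w hw
        intro y hyW
        have := hy y (Submodule.mem_sup_left hyW)
        rw [Φ.add_left, Φ.smul_left, huW y hyW, mul_zero, add_zero] at this
        exact this
      subst h1
      have h2 := hy u (Submodule.mem_sup_right (Submodule.mem_span_singleton_self _))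
      rw [zero_add, Φ.smul_left] at h2
      rcases mul_eq_zero.1 h2 with h3 | h3
      · rw [h3]; simp
      · exact absurd h3 hu'
    · have hd : W ⊓ Submodule.span F {(u : V)} = ⊥ := by
        rw [Submodule.eq_bot_iff]
        rintro x ⟨hx1, hx2⟩
        obtain ⟨a, rfl⟩ := Submodule.mem_span_singleton.1 hx2
        have := huW _ hx1
        rw [Φ.smul_right, hΦ.s] at this
        rcases mul_eq_zero.1 this with h3 | h3
        · rw [(pow_eq_zero_iff (by have := two_le_of_card hΦ.card; omega)).1 h3]; simp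
        · exact absurd h3 hu'
      have h1 := Submodule.finrank_sup_add_finrank_inf_eq W (Submodule.span F {(u : V)})
      rw [hd, finrank_bot, add_zero, finrank_span_singleton hu0, hWs] at h1
      exact h1

/-- orthogonal decompositions with prescribed dimensions -/
theorem exists_dec (hΦ : IsHerm r Φ) (s : ℕ) (hs : s ≤ Module.finrank F V) :
    ∃ W U : Submodule F V, Φ.Dec W U ∧ Module.finrank F W = s ∧
      Module.finrank F U = Module.finrank F V - s := by
  obtain ⟨W, hW, hWs⟩ := exists_ndOn hΦ s hs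
  have := finrank_perp hΦ W
  exact ⟨W, perp Φ W, dec_perp hΦ hW, hWs, by omega⟩

/-- isometries of prescribed determinant -/
theorem exists_det (hΦ : IsHerm r Φ) (h : 0 < Module.finrank F V) {κ : F} (hκ : κ ^ (r + 1) = 1) :
    ∃ x ∈ Φ.Iso, LinearMap.det (x : V →ₗ[F] V) = κ := by
  have hκ0 : κ ≠ 0 := by
    rintro rfl
    rw [zero_pow (by omega)] at hκ
    exact zero_ne_one hκ
  obtain ⟨W, U, hdec, hW, hU⟩ := exists_dec hΦ 1 h
  let a : W ≃ₗ[F] W := LinearEquiv.smulOfNeZero F W κ hκ0
  refine ⟨glue hdec.compl a 1, glue_mem_iso hdec ⟨fun x y => ?_, fun x => ?_⟩ (Subgroup.one_mem _), ?_⟩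
  · show Φ.B (κ • (x : V)) (κ • (y : V)) = Φ.B x y
    rw [Φ.smul_left, Φ.smul_right, hΦ.s, ← mul_assoc, ← pow_succ', hκ, one_mul]
  · show Φ.q _ = Φ.q _
    rw [hΦ.q, hΦ.q]
  · rw [det_glue]
    have h1 : ((1 : U ≃ₗ[F] U) : U →ₗ[F] U) = LinearMap.id := rfl
    have h2 : (a : W →ₗ[F] W) = κ • (LinearMap.id : W →ₗ[F] W) := rfl
    rw [h1, LinearMap.det_id, mul_one, h2, LinearMap.det_smul, hW, LinearMap.det_id, pow_one, mul_one]

/-- the determinant of an isometry has norm one -/
theorem det_norm (hΦ : IsHerm r Φ) {g : V ≃ₗ[F] V} (hg : g ∈ Φ.Iso) :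
    LinearMap.det (g : V →ₗ[F] V) ^ (r + 1) = 1 := by
  classical
  let b := Module.finBasis F V
  let H : Matrix (Fin (Module.finrank F V)) (Fin (Module.finrank F V)) F := fun i j => Φ.B (b i) (b j)
  let G := LinearMap.toMatrix b b (g : V →ₗ[F] V)
  have hgb : ∀ i, g (b i) = ∑ k, G k i • b k := by
    intro i
    have h1 := b.sum_repr (g (b i))
    rw [← h1]
    refine Finset.sum_congr rfl fun k _ => ?_
    simp [G, LinearMap.toMatrix_apply]
  have h1 : G.transpose * H * (G.map (sig hΦ.card)) = H := by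
    ext i j
    have h2 := hg.1 (b i) (b j)
    rw [hgb i, hgb j, B_sum_left] at h2
    simp only [Matrix.mul_apply, Matrix.transpose_apply, Matrix.map_apply]
    rw [← show Φ.B (b i) (b j) = H i j from rfl, ← h2]
    have h3 : ∀ k, Φ.B (G k i • b k) (∑ l, G l j • b l) = ∑ l, G k i * ((G l j) ^ r * H k l) := by
      intro k
      rw [B_sum_right]
      refine Finset.sum_congr rfl fun l _ => ?_
      rw [Φ.smul_left, Φ.smul_right, hΦ.s]
    rw [Finset.sum_congr rfl fun k _ => h3 k]
    rw [Finset.sum_comm]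
    refine Finset.sum_congr rfl fun l _ => ?_
    rw [Finset.sum_mul]
    refine Finset.sum_congr rfl fun k _ => ?_
    show G k i * H k l * (G l j) ^ r = _
    ring
  have h2 := congrArg Matrix.det h1
  rw [Matrix.det_mul, Matrix.det_mul, Matrix.det_transpose] at h2
  have h3 : (G.map (sig hΦ.card)).det = G.det ^ r := by
    have := (RingHom.map_det (sig hΦ.card) G).symm
    rw [RingHom.mapMatrix_apply] at this
    exact this
  have h4 : H.det ≠ 0 := by
    intro h0
    obtain ⟨v, hv, hv0⟩ := Matrix.exists_vecMul_eq_zero_iff.2 h0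
    apply hv
    have h5 : (∑ i, v i • b i) = 0 := by
      apply hΦ.nd
      intro y
      rw [← b.sum_repr y, B_sum_right]
      refine Finset.sum_eq_zero fun j _ => ?_
      rw [Φ.smul_right, B_sum_left]
      have h6 : (∑ i, Φ.B (v i • b i) (b j)) = 0 := by
        have := congrFun hv0 j
        simp only [Matrix.vecMul, dotProduct, Pi.zero_apply] at this
        rw [← this]
        refine Finset.sum_congr rfl fun i _ => ?_
        rw [Φ.smul_left]
      rw [h6, mul_zero]
    funext i
    exact Fintype.linearIndependent_iff.1 b.linearIndependent _ h5 i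
  rw [h3] at h2
  have h5 : LinearMap.det (g : V →ₗ[F] V) = G.det := (LinearMap.det_toMatrix b _).symm
  rw [h5]
  have h6 : (G.det ^ (r + 1) - 1) * H.det = 0 := by
    rw [pow_succ]; linear_combination h2
  rcases mul_eq_zero.1 h6 with h7 | h7
  · exact sub_eq_zero.1 h7
  · exact absurd h7 h4

end Herm

end Cfsg.Agent.H557.Bs
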