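import Cfsg.Agent.H557.Bs.Herm

/-! # S5733, BS26: counting conjugates in the special unitary group -/

set_option autoImplicit false
set_option linter.unusedSectionVars false

namespace Cfsg.Agent.H557.Bs

open Cfsg.Agent.H847.Bs

section Grp

/-- a set `E` with the (TI) property has many conjugates -/
theorem card_conj {A : Type*} [Group A] [Finite A] (G : Subgroup A) (M E : Set A)
    (hTI : ∀ g ∈ G, ∀ x ∈ E, g * x * g⁻¹ ∈ E → g ∈ M) :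
    Nat.card G * Nat.card E ≤ Nat.card {y : A // ∃ g ∈ G, ∃ x ∈ E, y = g * x * g⁻¹} * Nat.card M := by
  classical
  rw [← Nat.card_prod, ← Nat.card_prod]
  have key : ∀ y : {y : A // ∃ g ∈ G, ∃ x ∈ E, y = g * x * g⁻¹}, ∃ g₀ ∈ G, g₀⁻¹ * (y : A) * g₀ ∈ E := by
    rintro ⟨y, g, hg, x, hx, rfl⟩
    refine ⟨g, hg, ?_⟩
    have : g⁻¹ * (g * x * g⁻¹) * g = x := by group
    simp only [this]; exact hx
  choose g₀ hg₀ hE using key
  let y : G × E → {y : A // ∃ g ∈ G, ∃ x ∈ E, y = g * x * g⁻¹} := fun p =>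
    ⟨(p.1 : A) * p.2 * (p.1 : A)⁻¹, p.1, p.1.2, p.2, p.2.2, rfl⟩
  have hM : ∀ p : G × E, (g₀ (y p))⁻¹ * (p.1 : A) ∈ M := by
    intro p
    apply hTI _ (G.mul_mem (G.inv_mem (hg₀ _)) p.1.2) p.2 p.2.2
    have := hE (y p)
    have h2 : (g₀ (y p))⁻¹ * (p.1 : A) * (p.2 : A) * ((g₀ (y p))⁻¹ * (p.1 : A))⁻¹ =
        (g₀ (y p))⁻¹ * ((y p : _) : A) * g₀ (y p) := by
      show _ = (g₀ (y p))⁻¹ * ((p.1 : A) * p.2 * (p.1 : A)⁻¹) * g₀ (y p)
      group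
    rw [h2]; exact this
  refine Nat.card_le_card_of_injective (fun p => (y p, (⟨_, hM p⟩ : M))) ?_
  rintro p p' h
  have h1 : y p = y p' := congrArg Prod.fst h
  have h2 : (g₀ (y p))⁻¹ * (p.1 : A) = (g₀ (y p'))⁻¹ * (p'.1 : A) :=
    congrArg (fun z => (z.2 : A)) h
  rw [h1] at h2
  have h3 : (p.1 : A) = p'.1 := mul_left_cancel h2
  have h4 : (p.1 : A) * p.2 * (p.1 : A)⁻¹ = (p'.1 : A) * p'.2 * (p'.1 : A)⁻¹ := congrArg Subtype.val h1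
  rw [h3] at h4
  have h5 : (p.2 : A) = p'.2 := mul_left_cancel (mul_right_cancel h4)
  exact Prod.ext (Subtype.ext h3) (Subtype.ext h5)

/-- disjoint subsets -/
theorem sum_card_le {A ι : Type*} [Finite A] (S : Finset ι) (C : ι → Set A) (T : Set A)
    (hC : ∀ i ∈ S, C i ⊆ T) (hd : ∀ i ∈ S, ∀ j ∈ S, ∀ x, x ∈ C i → x ∈ C j → i = j) :
    ∑ i ∈ S, Nat.card (C i) ≤ Nat.card T := by
  classical
  have := Fintype.ofFinite A
  have h1 : ∀ s : Set A, Nat.card s = s.toFinset.card := by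
    intro s; rw [Nat.card_eq_fintype_card, Set.toFinset_card]
  simp only [h1]
  rw [← Finset.card_biUnion]
  · apply Finset.card_le_card
    intro x hx
    obtain ⟨i, hi, hx⟩ := Finset.mem_biUnion.1 hx
    rw [Set.mem_toFinset] at hx ⊢
    exact hC i hi hx
  · intro i hi j hj hij
    rw [Function.onFun, Finset.disjoint_left]
    intro x hx hx'
    rw [Set.mem_toFinset] at hx hx'
    exact hij (hd i hi j hj x hx hx')

end Grp

section Herm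

variable {F V : Type*} [Field F] [Finite F] [AddCommGroup V] [Module F V] [Module.Finite F V]
  {Φ : Frm F V} {r : ℕ}

instance finiteEquiv : Finite (V ≃ₗ[F] V) := by
  have : Finite V := Module.finite_of_finite F
  exact Finite.of_injective (fun e : V ≃ₗ[F] V => (e : V → V)) DFunLike.coe_injective

/-- the special unitary group -/
def SU (Φ : Frm F V) : Subgroup (V ≃ₗ[F] V) := Φ.Iso ⊓ slV F V

theorem mem_SU {x : V ≃ₗ[F] V} : x ∈ SU Φ ↔ x ∈ Φ.Iso ∧ LinearMap.det (x : V →ₗ[F] V) = 1 := Iff.rfl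

/-- the isometries with determinant `κ` -/
def fib (Φ : Frm F V) (κ : F) : Set (V ≃ₗ[F] V) := {x | x ∈ Φ.Iso ∧ LinearMap.det (x : V →ₗ[F] V) = κ}

theorem det_ne_zero (x : V ≃ₗ[F] V) : LinearMap.det (x : V →ₗ[F] V) ≠ 0 := (LinearEquiv.isUnit_det' x).ne_zero

theorem det_inv' (x : V ≃ₗ[F] V) :
    LinearMap.det ((x⁻¹ : V ≃ₗ[F] V) : V →ₗ[F] V) = (LinearMap.det (x : V →ₗ[F] V))⁻¹ := by
  have h := det_mul' x x⁻¹
  rw [mul_inv_cancel] at h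
  have h1 : LinearMap.det ((1 : V ≃ₗ[F] V) : V →ₗ[F] V) = 1 := LinearMap.det_id
  rw [h1] at h
  exact (inv_eq_of_mul_eq_one_right h.symm).symm

theorem card_fib_le (Φ : Frm F V) (κ : F) : Nat.card (fib Φ κ) ≤ Nat.card (SU Φ) := by
  by_cases h : Nonempty (fib Φ κ)
  · obtain ⟨w, hw⟩ := h
    refine Nat.card_le_card_of_injective (fun x : fib Φ κ => (⟨w⁻¹ * x, ?_⟩ : SU Φ)) ?_
    · refine ⟨Φ.Iso.mul_mem (Φ.Iso.inv_mem hw.1) x.2.1, ?_⟩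
      show LinearMap.det _ = 1
      rw [det_mul', det_inv', hw.2, x.2.2, inv_mul_cancel₀]
      rw [← hw.2]; exact det_ne_zero w
    · intro a b hab
      have h1 : w⁻¹ * (a : V ≃ₗ[F] V) = w⁻¹ * b := congrArg Subtype.val hab
      exact Subtype.ext (mul_left_cancel h1)
  · have := not_nonempty_iff.1 h
    rw [Nat.card_of_isEmpty]; exact Nat.zero_le _

theorem le_card_fib {κ : F} (h : (fib Φ κ).Nonempty) : Nat.card (SU Φ) ≤ Nat.card (fib Φ κ) := by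
  obtain ⟨w, hw⟩ := h
  refine Nat.card_le_card_of_injective (fun x : SU Φ => (⟨w * x, ?_⟩ : fib Φ κ)) ?_
  · refine ⟨Φ.Iso.mul_mem hw.1 x.2.1, ?_⟩
    have h2 : LinearMap.det ((x : V ≃ₗ[F] V) : V →ₗ[F] V) = 1 := x.2.2
    rw [det_mul', hw.2, h2, mul_one]
  · intro a b hab
    have h1 : w * (a : V ≃ₗ[F] V) = w * b := congrArg Subtype.val hab
    exact Subtype.ext (mul_left_cancel h1)

theorem card_SU_le (hΦ : IsHerm r Φ) (h : 0 < Module.finrank F V) :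
    (r + 1) * Nat.card (SU Φ) ≤ Nat.card Φ.Iso := by
  classical
  have h1 : Nat.card (Σ κ : {κ : F // κ ^ (r + 1) = 1}, fib Φ κ) ≤ Nat.card Φ.Iso := by
    refine Nat.card_le_card_of_injective (fun p => (⟨p.2, p.2.2.1⟩ : Φ.Iso)) ?_
    rintro ⟨⟨κ, hκ⟩, ⟨x, hx⟩⟩ ⟨⟨κ', hκ'⟩, ⟨x', hx'⟩⟩ h
    have h2 : x = x' := congrArg Subtype.val h
    subst h2
    have h3 : κ = κ' := hx.2.symm.trans hx'.2
    subst h3
    rfl
  have := Fintype.ofFinite {κ : F // κ ^ (r + 1) = 1}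
  rw [Nat.card_sigma] at h1
  have h2 : ∑ _κ : {κ : F // κ ^ (r + 1) = 1}, Nat.card (SU Φ) ≤
      ∑ κ : {κ : F // κ ^ (r + 1) = 1}, Nat.card (fib Φ κ) := by
    refine Finset.sum_le_sum fun κ _ => le_card_fib ?_
    obtain ⟨x, hx, hd⟩ := exists_det hΦ h κ.2
    exact ⟨x, hx, hd⟩
  rw [Finset.sum_const, smul_eq_mul, Finset.card_univ, ← Nat.card_eq_fintype_card] at h2
  exact (Nat.mul_le_mul_right _ (card_mu hΦ.card)).trans (h2.trans h1)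

variable {W U : Submodule F V}

/-- the set of the elements `glue w u` of determinant one -/
def ES (Φ : Frm F V) (h : Φ.Dec W U) (X : Set (W ≃ₗ[F] W)) (Y : Set (U ≃ₗ[F] U)) : Set (V ≃ₗ[F] V) :=
  {z | ∃ w ∈ X, ∃ u ∈ Y, LinearMap.det (w : W →ₗ[F] W) * LinearMap.det (u : U →ₗ[F] U) = 1 ∧
    z = glue h.compl w u}

/-- the conjugates of the elements of `ES` in the special unitary group -/
def CS (Φ : Frm F V) (h : Φ.Dec W U) (X : Set (W ≃ₗ[F] W)) (Y : Set (U ≃ₗ[F] U)) : Set (V ≃ₗ[F] V) :=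
  {y | ∃ g ∈ SU Φ, ∃ x ∈ ES Φ h X Y, y = g * x * g⁻¹}

/-- the number of elements of `ES` -/
theorem card_ES (hΦ : IsHerm r Φ) (h : Φ.Dec W U) {X : Set (W ≃ₗ[F] W)} {Y : Set (U ≃ₗ[F] U)} {N : ℕ}
    (hY : Y ⊆ (Φ.on U).Iso)
    (hX : ∀ κ : F, κ ^ (r + 1) = 1 → Nat.card (SU (Φ.on W)) ≤
      N * Nat.card {x : W ≃ₗ[F] W // x ∈ X ∧ LinearMap.det (x : W →ₗ[F] W) = κ}) :
    Nat.card Y * Nat.card (SU (Φ.on W)) ≤ N * Nat.card (ES Φ h X Y) := by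
  classical
  have hU : IsHerm r (Φ.on U) := IsHerm.on hΦ (dec_nd_right hΦ.nd h)
  let Z : Y → Type _ := fun u => {x : W ≃ₗ[F] W // x ∈ X ∧ LinearMap.det (x : W →ₗ[F] W) =
        (LinearMap.det ((u : U ≃ₗ[F] U) : U →ₗ[F] U))⁻¹}
  have h2 : Nat.card (Σ u : Y, Z u) ≤ Nat.card (ES Φ h X Y) := by
    let f : (Σ u : Y, Z u) → ES Φ h X Y := fun p => ⟨glue h.compl p.2.1 p.1.1, p.2.1, p.2.2.1, p.1.1,
        p.1.2, by rw [p.2.2.2, inv_mul_cancel₀ (det_ne_zero _)], rfl⟩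
    refine Nat.card_le_card_of_injective f ?_
    rintro ⟨⟨u, hu⟩, ⟨x, hx⟩⟩ ⟨⟨u', hu'⟩, ⟨x', hx'⟩⟩ he
    obtain ⟨h3, h4⟩ := glue_inj h.compl (congrArg Subtype.val he)
    simp only at h3 h4
    subst h3; subst h4
    rfl
  have := Fintype.ofFinite Y
  rw [Nat.card_sigma] at h2
  have h3 : ∑ _u : Y, Nat.card (SU (Φ.on W)) ≤ ∑ u : Y, N * Nat.card (Z u) := by
    refine Finset.sum_le_sum fun u _ => hX _ ?_
    rw [inv_pow, det_norm hU (hY u.2), inv_one]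
  rw [Finset.sum_const, smul_eq_mul, Finset.card_univ, ← Nat.card_eq_fintype_card, ← Finset.mul_sum] at h3
  exact h3.trans (Nat.mul_le_mul_left _ h2)

/-- the stabiliser of `W` in the special unitary group -/
def MS (Φ : Frm F V) (W : Submodule F V) : Set (V ≃ₗ[F] V) := {g | g ∈ SU Φ ∧ Inv g W}

theorem card_MS (hnd : Φ.Nd) (h : Φ.Dec W U) :
    Nat.card (MS Φ W) ≤ Nat.card (Φ.on U).Iso * Nat.card (SU (Φ.on W)) := by
  classical
  have hg : ∀ g : MS Φ W, Inv (g : V ≃ₗ[F] V) U := fun g => inv_of_inv hnd h g.2.1.1 g.2.2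
  let Z : (Φ.on U).Iso → Type _ := fun u => fib (Φ.on W)
        (LinearMap.det ((u : U ≃ₗ[F] U) : U →ₗ[F] U))⁻¹
  have h4 : Nat.card (MS Φ W) ≤ Nat.card (Σ u : (Φ.on U).Iso, Z u) := by
    have hd : ∀ g : MS Φ W, LinearMap.det ((res (g : V ≃ₗ[F] V) W g.2.2 : W ≃ₗ[F] W) : W →ₗ[F] W) =
        (LinearMap.det ((res (g : V ≃ₗ[F] V) U (hg g) : U ≃ₗ[F] U) : U →ₗ[F] U))⁻¹ := by
      intro g
      have h5 := det_glue h.compl (res (g : V ≃ₗ[F] V) W g.2.2) (res (g : V ≃ₗ[F] V) U (hg g))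
      have h6 : LinearMap.det (((g : V ≃ₗ[F] V)) : V →ₗ[F] V) = 1 := g.2.1.2
      rw [glue_res, h6] at h5
      exact (inv_eq_of_mul_eq_one_left h5.symm).symm
    let f : MS Φ W → (Σ u : (Φ.on U).Iso, Z u) := fun g =>
      ⟨⟨res (g : V ≃ₗ[F] V) U (hg g), res_mem_iso g.2.1.1 (hg g)⟩,
        ⟨res (g : V ≃ₗ[F] V) W g.2.2, res_mem_iso g.2.1.1 g.2.2, hd g⟩⟩
    refine Nat.card_le_card_of_injective f ?_
    intro a b hab
    have h5 : res (a : V ≃ₗ[F] V) U (hg a) = res (b : V ≃ₗ[F] V) U (hg b) :=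
      congrArg (fun p : (Σ u : (Φ.on U).Iso, Z u) => (p.1 : U ≃ₗ[F] U)) hab
    have h6 : res (a : V ≃ₗ[F] V) W a.2.2 = res (b : V ≃ₗ[F] V) W b.2.2 :=
      congrArg (fun p : (Σ u : (Φ.on U).Iso, Z u) => (p.2.1 : W ≃ₗ[F] W)) hab
    apply Subtype.ext
    rw [← glue_res h.compl (a : V ≃ₗ[F] V) a.2.2 (hg a), ← glue_res h.compl (b : V ≃ₗ[F] V) b.2.2 (hg b), h5, h6]
  have := Fintype.ofFinite (Φ.on U).Iso
  rw [Nat.card_sigma] at h4
  refine h4.trans ?_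
  calc ∑ u : (Φ.on U).Iso, Nat.card (Z u)
      ≤ ∑ _u : (Φ.on U).Iso, Nat.card (SU (Φ.on W)) := Finset.sum_le_sum fun u _ => card_fib_le _ _
    _ = _ := by rw [Finset.sum_const, smul_eq_mul, Finset.card_univ, ← Nat.card_eq_fintype_card]

theorem count (hΦ : IsHerm r Φ) (h : Φ.Dec W U) {X : Set (W ≃ₗ[F] W)} {Y : Set (U ≃ₗ[F] U)} {N : ℕ}
    (hY : Y ⊆ (Φ.on U).Iso)
    (hX : ∀ κ : F, κ ^ (r + 1) = 1 → Nat.card (SU (Φ.on W)) ≤
      N * Nat.card {x : W ≃ₗ[F] W // x ∈ X ∧ LinearMap.det (x : W →ₗ[F] W) = κ})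
    (hTI : ∀ g ∈ Φ.Iso, ∀ z ∈ ES Φ h X Y, g * z * g⁻¹ ∈ ES Φ h X Y → Inv g W) :
    Nat.card (SU Φ) * Nat.card Y ≤ N * Nat.card (Φ.on U).Iso * Nat.card (CS Φ h X Y) := by
  have h1 := card_ES hΦ h hY hX
  have h3 := card_MS hΦ.nd h
  have h5 := card_conj (SU Φ) (MS Φ W) (ES Φ h X Y) (fun g hg x hx hx' => ⟨hg, hTI g hg.1 x hx hx'⟩)
  have h6 : 0 < Nat.card (SU (Φ.on W)) := Nat.card_pos
  refine Nat.le_of_mul_le_mul_right ?_ h6
  calc Nat.card (SU Φ) * Nat.card Y * Nat.card (SU (Φ.on W))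
      = Nat.card (SU Φ) * (Nat.card Y * Nat.card (SU (Φ.on W))) := by ring
    _ ≤ Nat.card (SU Φ) * (N * Nat.card (ES Φ h X Y)) := Nat.mul_le_mul_left _ h1
    _ = N * (Nat.card (SU Φ) * Nat.card (ES Φ h X Y)) := by ring
    _ ≤ N * (Nat.card (CS Φ h X Y) * Nat.card (MS Φ W)) := Nat.mul_le_mul_left _ h5
    _ ≤ N * (Nat.card (CS Φ h X Y) * (Nat.card (Φ.on U).Iso * Nat.card (SU (Φ.on W)))) := by gcongr
    _ = _ := by ring

end Herm

end Cfsg.Agent.H557.Bs
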