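import Cfsg.Agent.H557.Bs.SU
import Cfsg.Agent.H847.Bs.Stmts

/-! # S5733: BS26 and BS28 (unitary), from BS06 and BS11 -/

set_option autoImplicit false

namespace Cfsg.Agent.H557.Bs

open Cfsg.Agent.H847.Bs

theorem hcnt_of (h : S11) : ∃ c : ℝ, 0 < c ∧ ∃ K₀ : ℕ, HCnt.{0, 0} c K₀ := by
  obtain ⟨c, hc, K₀, h⟩ := h
  exact ⟨c, hc, K₀, fun r F V _ _ _ _ _ Φ hΦ n K h1 h2 h3 => h F V r Φ n K hΦ h1 h2 h3⟩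

theorem s26_s28u (h11 : S11) (hBm : HBm.{0, 0}) (hadj : HAdj.{0, 0}) : S26 ∧ S28u := by
  obtain ⟨c, hc, n₀, h⟩ := su_red.{0, 0} (hcnt_of h11) hBm hadj
  have key : ∀ (F V : Type) [Field F] [Finite F] [AddCommGroup V] [Module F V]
      [Module.Finite F V] (r : ℕ) (Φ : Frm F V), IsHerm r Φ → n₀ ≤ Module.finrank F V → ∀ Y : Submodule F V,
      Y ≠ ⊥ → Y ≠ ⊤ → c * (Nat.card ↥(Φ.Iso ⊓ slV F V) : ℝ) ≤ noInv (Φ.Iso ⊓ slV F V) Y := by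
    intro F V _ _ _ _ _ r Φ hΦ hn Y h1 h2
    refine (h r F V Φ hΦ hn Y h1 h2).trans ?_
    have h3 : {x : V ≃ₗ[F] V | x ∈ Φ.Iso ⊓ slV F V ∧ ∀ g : V ≃ₗ[F] V, ¬ Inv x (Y.map (g : V →ₗ[F] V))} ⊆
        {x : V ≃ₗ[F] V | x ∈ Φ.Iso ⊓ slV F V ∧ ∀ g ∈ Φ.Iso ⊓ slV F V, ¬ Inv x (Y.map (g : V →ₗ[F] V))} :=
      fun x hx => ⟨hx.1, fun g _ => hx.2 g⟩
    exact_mod_cast Nat.card_mono (Set.toFinite _) h3
  refine ⟨⟨c, hc, max n₀ 1, ?_⟩, c, hc, n₀, ?_⟩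
  · intro F V _ _ _ _ _ r Φ hΦ hn Y h1 h2
    refine key F V r Φ hΦ (by omega) Y h1 ?_
    rintro rfl
    apply h1
    rw [Submodule.eq_bot_iff]
    intro x _
    exact hΦ.nd x fun y => h2.1 x trivial y trivial
  · intro F V _ _ _ _ _ r Φ hΦ hn Y h1 h2 _
    exact key F V r Φ hΦ hn Y h1 h2

end Cfsg.Agent.H557.Bs
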