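import Cfsg.Agent.H847.Bs.Defs2

/-! # S5733, BS26: elementary facts about `glue`, isometries and orthogonal decompositions -/

set_option autoImplicit false

namespace Cfsg.Agent.H557.Bs

open Cfsg.Agent.H847.Bs

section Lin

variable {F V : Type*} [Field F] [AddCommGroup V] [Module F V] {D U : Submodule F V}

theorem glue_apply (h : IsCompl D U) (x : D ≃ₗ[F] D) (y : U ≃ₗ[F] U) (d : D) (u : U) :
    glue h x y ((d : V) + (u : V)) = (x d : V) + (y u : V) := by
  have h1 : (Submodule.prodEquivOfIsCompl D U h).symm ((d : V) + (u : V)) = (d, u) := by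
    rw [LinearEquiv.symm_apply_eq]; rfl
  show Submodule.prodEquivOfIsCompl D U h ((x.prodCongr y) ((Submodule.prodEquivOfIsCompl D U h).symm _)) = _
  rw [h1]; rfl

theorem glue_left (h : IsCompl D U) (x : D ≃ₗ[F] D) (y : U ≃ₗ[F] U) (d : D) :
    glue h x y (d : V) = (x d : V) := by
  have := glue_apply h x y d 0
  simpa using this

theorem glue_right (h : IsCompl D U) (x : D ≃ₗ[F] D) (y : U ≃ₗ[F] U) (u : U) :
    glue h x y (u : V) = (y u : V) := by
  have := glue_apply h x y 0 u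
  simpa using this

theorem exists_add (h : IsCompl D U) (v : V) : ∃ (d : D) (u : U), v = (d : V) + (u : V) := by
  have : v ∈ D ⊔ U := by rw [h.sup_eq_top]; trivial
  obtain ⟨d, hd, u, hu, rfl⟩ := Submodule.mem_sup.1 this
  exact ⟨⟨d, hd⟩, ⟨u, hu⟩, rfl⟩

theorem glue_mul (h : IsCompl D U) (x x' : D ≃ₗ[F] D) (y y' : U ≃ₗ[F] U) :
    glue h x y * glue h x' y' = glue h (x * x') (y * y') := by
  ext v
  obtain ⟨d, u, rfl⟩ := exists_add h v
  show glue h x y (glue h x' y' _) = _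
  rw [glue_apply, glue_apply, glue_apply]; rfl

theorem glue_inj (h : IsCompl D U) {x x' : D ≃ₗ[F] D} {y y' : U ≃ₗ[F] U}
    (he : glue h x y = glue h x' y') : x = x' ∧ y = y' := by
  constructor
  · ext d
    have := congrArg (fun f : V ≃ₗ[F] V => f (d : V)) he
    simpa [glue_left] using this
  · ext u
    have := congrArg (fun f : V ≃ₗ[F] V => f (u : V)) he
    simpa [glue_right] using this

theorem det_glue [Module.Finite F V] (h : IsCompl D U) (x : D ≃ₗ[F] D) (y : U ≃ₗ[F] U) :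
    LinearMap.det (glue h x y : V →ₗ[F] V) =
      LinearMap.det (x : D →ₗ[F] D) * LinearMap.det (y : U →ₗ[F] U) := by
  have h1 : (glue h x y : V →ₗ[F] V) =
      (Submodule.prodEquivOfIsCompl D U h : (D × U) →ₗ[F] V) ∘ₗ
        ((x : D →ₗ[F] D).prodMap (y : U →ₗ[F] U)) ∘ₗ
        ((Submodule.prodEquivOfIsCompl D U h).symm : V →ₗ[F] (D × U)) := by
    ext v; rfl
  rw [h1, LinearMap.det_conj, LinearMap.det_prodMap]

theorem det_mul' (g k : V ≃ₗ[F] V) :
    LinearMap.det ((g * k : V ≃ₗ[F] V) : V →ₗ[F] V) =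
      LinearMap.det (g : V →ₗ[F] V) * LinearMap.det (k : V →ₗ[F] V) := by
  rw [← LinearMap.det_comp]; rfl

theorem det_conj' (g k : V ≃ₗ[F] V) :
    LinearMap.det ((g * k * g⁻¹ : V ≃ₗ[F] V) : V →ₗ[F] V) = LinearMap.det (k : V →ₗ[F] V) := by
  have := LinearMap.det_conj (k : V →ₗ[F] V) g
  rw [← this]; rfl

theorem inv_glue_left (h : IsCompl D U) (x : D ≃ₗ[F] D) (y : U ≃ₗ[F] U) : Inv (glue h x y) D := by
  intro v hv
  have := glue_left h x y ⟨v, hv⟩
  simp only at this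
  rw [this]; exact (x _).2

theorem inv_glue_right (h : IsCompl D U) (x : D ≃ₗ[F] D) (y : U ≃ₗ[F] U) : Inv (glue h x y) U := by
  intro v hv
  have := glue_right h x y ⟨v, hv⟩
  simp only at this
  rw [this]; exact (y _).2

/-- an invariant subspace is mapped onto itself -/
theorem Inv.map_eq [Module.Finite F V] {g : V ≃ₗ[F] V} {Y : Submodule F V} (h : Inv g Y) :
    Y.map (g : V →ₗ[F] V) = Y := by
  apply Submodule.eq_of_le_of_finrank_eq
  · rintro _ ⟨v, hv, rfl⟩; exact h v hv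
  · exact LinearEquiv.finrank_map_eq g Y

theorem Inv.inv [Module.Finite F V] {g : V ≃ₗ[F] V} {Y : Submodule F V} (h : Inv g Y) : Inv g⁻¹ Y := by
  intro v hv
  rw [← Inv.map_eq h] at hv
  obtain ⟨w, hw, rfl⟩ := hv
  have : g⁻¹ (g w) = w := g.symm_apply_apply w
  show g⁻¹ (g w) ∈ Y
  rw [this]; exact hw

/-- transport of an invariant subspace by a conjugation -/
theorem inv_conj {g z z' : V ≃ₗ[F] V} (he : g * z * g⁻¹ = z') {Y : Submodule F V} (h : Inv z Y) :
    Inv z' (Y.map (g : V →ₗ[F] V)) := by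
  rintro _ ⟨v, hv, rfl⟩
  refine ⟨z v, h v hv, ?_⟩
  show g (z v) = z' (g v)
  rw [← he]
  show g (z v) = g (z (g⁻¹ (g v)))
  have : g⁻¹ (g v) = v := g.symm_apply_apply v
  rw [this]

/-- the projection to the second summand of a small invariant subspace is zero -/
theorem le_left_of_inv [Module.Finite F V] (h : IsCompl D U) {x : D ≃ₗ[F] D} {y : U ≃ₗ[F] U} {K : ℕ}
    (hy : ∀ Z : Submodule F U, Inv y Z → Z ≠ ⊥ → K < Module.finrank F Z) {Y : Submodule F V}
    (hY : Inv (glue h x y) Y) (hK : Module.finrank F Y ≤ K) : Y ≤ D := by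
  set p : V →ₗ[F] U := LinearMap.snd F D U ∘ₗ ((Submodule.prodEquivOfIsCompl D U h).symm : V →ₗ[F] D × U) with hp
  have hpa : ∀ (d : D) (u : U), p ((d : V) + (u : V)) = u := by
    intro d u
    have h1 : (Submodule.prodEquivOfIsCompl D U h).symm ((d : V) + (u : V)) = (d, u) := by
      rw [LinearEquiv.symm_apply_eq]; rfl
    show ((Submodule.prodEquivOfIsCompl D U h).symm ((d : V) + (u : V))).2 = u
    rw [h1]
  have hinv : Inv y (Y.map p) := by
    rintro _ ⟨v, hv, rfl⟩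
    refine ⟨glue h x y v, hY v hv, ?_⟩
    obtain ⟨d, u, rfl⟩ := exists_add h v
    rw [glue_apply, hpa, hpa]
  have hbot : Y.map p = ⊥ := by
    by_contra hne
    have := hy _ hinv hne
    have h2 : Module.finrank F (Y.map p) ≤ Module.finrank F Y := Submodule.finrank_map_le p Y
    omega
  intro v hv
  obtain ⟨d, u, rfl⟩ := exists_add h v
  have : p ((d : V) + (u : V)) ∈ Y.map p := ⟨_, hv, rfl⟩
  rw [hbot, Submodule.mem_bot, hpa] at this
  rw [this]; simp

end Lin

section Form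

variable {F V : Type*} [Field F] [AddCommGroup V] [Module F V] {Φ : Frm F V} {D U : Submodule F V}

theorem B_zero_left (Φ : Frm F V) (y : V) : Φ.B 0 y = 0 := by
  have := Φ.smul_left 0 0 y
  simpa using this

theorem q_zero (Φ : Frm F V) : Φ.q 0 = 0 := by
  have := Φ.q_add 0 0 (B_zero_left Φ 0)
  simpa using this

theorem B_add_add (h : Φ.Orth D U) (d d' : D) (u u' : U) :
    Φ.B ((d : V) + u) ((d' : V) + u') = Φ.B d d' + Φ.B u u' := by
  rw [Φ.add_left, Φ.add_right, Φ.add_right, h d d.2 u' u'.2, Φ.refl _ _ (h d' d'.2 u u.2)]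
  ring

theorem q_add_add (h : Φ.Orth D U) (d : D) (u : U) : Φ.q ((d : V) + u) = Φ.q d + Φ.q u :=
  Φ.q_add _ _ (h d d.2 u u.2)

theorem glue_mem_iso (h : Φ.Dec D U) {x : D ≃ₗ[F] D} {y : U ≃ₗ[F] U} (hx : x ∈ (Φ.on D).Iso)
    (hy : y ∈ (Φ.on U).Iso) : glue h.compl x y ∈ Φ.Iso := by
  refine ⟨fun v w => ?_, fun v => ?_⟩
  · obtain ⟨d, u, rfl⟩ := exists_add h.compl v
    obtain ⟨d', u', rfl⟩ := exists_add h.compl w
    rw [glue_apply, glue_apply, B_add_add h.orth, B_add_add h.orth]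
    exact congrArg₂ (· + ·) (hx.1 d d') (hy.1 u u')
  · obtain ⟨d, u, rfl⟩ := exists_add h.compl v
    rw [glue_apply, q_add_add h.orth, q_add_add h.orth]
    exact congrArg₂ (· + ·) (hx.2 d) (hy.2 u)

/-- the restriction of an automorphism to an invariant subspace -/
noncomputable def res [Module.Finite F V] (g : V ≃ₗ[F] V) (D : Submodule F V) (h : Inv g D) : D ≃ₗ[F] D :=
  (g.submoduleMap D).trans (LinearEquiv.ofEq _ _ (Inv.map_eq h))

theorem res_apply [Module.Finite F V] (g : V ≃ₗ[F] V) (D : Submodule F V) (h : Inv g D) (d : D) :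
    (res g D h d : V) = g d := rfl

theorem res_mem_iso [Module.Finite F V] {g : V ≃ₗ[F] V} (hg : g ∈ Φ.Iso) (h : Inv g D) :
    res g D h ∈ (Φ.on D).Iso :=
  ⟨fun x y => hg.1 x y, fun x => hg.2 x⟩

theorem glue_res [Module.Finite F V] (hc : IsCompl D U) (g : V ≃ₗ[F] V) (h : Inv g D) (h' : Inv g U) :
    glue hc (res g D h) (res g U h') = g := by
  ext v
  obtain ⟨d, u, rfl⟩ := exists_add hc v
  rw [glue_apply, res_apply, res_apply, map_add]

theorem Orth.symm (h : Φ.Orth D U) : Φ.Orth U D := fun u hu d hd => Φ.refl _ _ (h d hd u hu)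

theorem Dec.symm (h : Φ.Dec D U) : Φ.Dec U D := ⟨h.compl.symm, Orth.symm h.orth⟩

/-- a vector orthogonal to `D` lies in `U` -/
theorem mem_of_orth (hnd : Φ.Nd) (h : Φ.Dec D U) {v : V} (hv : ∀ d ∈ D, Φ.B v d = 0) : v ∈ U := by
  obtain ⟨d, u, rfl⟩ := exists_add h.compl v
  have hd : (d : V) = 0 := by
    apply hnd
    intro w
    obtain ⟨d', u', rfl⟩ := exists_add h.compl w
    have h1 := hv d' d'.2
    rw [Φ.add_left, Φ.refl _ _ (h.orth d' d'.2 u u.2), add_zero] at h1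
    rw [Φ.add_right, h1, h.orth d d.2 u' u'.2, add_zero]
  rw [hd]; simp

theorem inv_of_inv [Module.Finite F V] (hnd : Φ.Nd) (h : Φ.Dec D U) {g : V ≃ₗ[F] V} (hg : g ∈ Φ.Iso)
    (hD : Inv g D) : Inv g U := by
  intro u hu
  apply mem_of_orth hnd h
  intro d hd
  have h1 := hg.1 u (g⁻¹ d)
  have h2 : g (g⁻¹ d) = d := g.apply_symm_apply d
  rw [h2] at h1
  rw [h1]
  exact Φ.refl _ _ (h.orth _ (Inv.inv hD d hd) u hu)

theorem dec_nd_left (hnd : Φ.Nd) (h : Φ.Dec D U) : (Φ.on D).Nd := by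
  intro d hd
  have : (d : V) = 0 := by
    apply hnd
    intro w
    obtain ⟨d', u', rfl⟩ := exists_add h.compl w
    rw [Φ.add_right, h.orth d d.2 u' u'.2, add_zero]
    exact hd d'
  exact_mod_cast this

theorem dec_nd_right (hnd : Φ.Nd) (h : Φ.Dec D U) : (Φ.on U).Nd := dec_nd_left hnd (Dec.symm h)

end Form

end Cfsg.Agent.H557.Bs
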