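import Cfsg.Agent.H557.Bs.Cnt

/-! # S5733, BS26: elements of the special unitary group without invariant subspaces of a given dimension -/

set_option autoImplicit false
set_option linter.unusedSectionVars false

namespace Cfsg.Agent.H557.Bs

open Cfsg.Agent.H847.Bs

section Herm

variable {F V : Type*} [Field F] [Finite F] [AddCommGroup V] [Module F V] [Module.Finite F V]
  {Φ : Frm F V} {r : ℕ} {W U : Submodule F V}

/-- the elements of the special unitary group without invariant subspace of dimension `m` -/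
def Good (Φ : Frm F V) (m : ℕ) : Set (V ≃ₗ[F] V) :=
  {x | x ∈ SU Φ ∧ ∀ Y : Submodule F V, Inv x Y → Module.finrank F Y ≠ m}

theorem inv_back {g z : V ≃ₗ[F] V} {Y : Submodule F V} (h : Inv (g * z * g⁻¹) Y) :
    Inv z (Y.map ((g⁻¹ : V ≃ₗ[F] V) : V →ₗ[F] V)) :=
  inv_conj (g := g⁻¹) (z := g * z * g⁻¹) (by group) h

theorem finrank_map (g : V ≃ₗ[F] V) (Y : Submodule F V) :
    Module.finrank F (Y.map (g : V →ₗ[F] V)) = Module.finrank F Y := LinearEquiv.finrank_map_eq g Y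

theorem ES_sub_SU (h : Φ.Dec W U) {X : Set (W ≃ₗ[F] W)} {Y : Set (U ≃ₗ[F] U)} (hX : X ⊆ (Φ.on W).Iso)
    (hY : Y ⊆ (Φ.on U).Iso) : ES Φ h X Y ⊆ SU Φ := by
  rintro _ ⟨w, hw, u, hu, hd, rfl⟩
  refine ⟨glue_mem_iso h (hX hw) (hY hu), ?_⟩
  show LinearMap.det _ = 1
  rw [det_glue, hd]

/-- `s` is the largest dimension `≤ m` of an invariant subspace -/
def Tp (m s : ℕ) (x : V ≃ₗ[F] V) : Prop :=
  (∃ Y : Submodule F V, Inv x Y ∧ Module.finrank F Y = s) ∧
    ∀ Y : Submodule F V, Inv x Y → Module.finrank F Y ≤ m → Module.finrank F Y ≤ s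

theorem Tp.conj {m s : ℕ} {x : V ≃ₗ[F] V} (h : Tp m s x) (g : V ≃ₗ[F] V) : Tp m s (g * x * g⁻¹) := by
  obtain ⟨⟨Y, hY, hYs⟩, h2⟩ := h
  refine ⟨⟨_, inv_conj rfl hY, (finrank_map g Y).trans hYs⟩, fun Z hZ hZm => ?_⟩
  have h3 := h2 _ (inv_back hZ)
  rw [finrank_map] at h3
  exact h3 hZm

theorem Tp.unique {m s s' : ℕ} {x : V ≃ₗ[F] V} (h : Tp m s x) (h' : Tp m s' x) (hs : s ≤ m) (hs' : s' ≤ m) :
    s = s' := by
  obtain ⟨⟨Y, hY, hYs⟩, h2⟩ := h
  obtain ⟨⟨Y', hY', hYs'⟩, h2'⟩ := h'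
  have h3 := h2 Y' hY' (by omega)
  have h4 := h2' Y hY (by omega)
  omega

/-- large blocks on `U` (with respect to `K`) -/
theorem ES_Tp (h : Φ.Dec W U) {X : Set (W ≃ₗ[F] W)} {Y : Set (U ≃ₗ[F] U)} {K : ℕ}
    (hY : ∀ y ∈ Y, ∀ Z : Submodule F U, Inv y Z → Z ≠ ⊥ → K < Module.finrank F Z)
    {z : V ≃ₗ[F] V} (hz : z ∈ ES Φ h X Y) : Tp K (Module.finrank F W) z := by
  obtain ⟨w, hw, u, hu, hd, rfl⟩ := hz
  refine ⟨⟨W, inv_glue_left h.compl w u, rfl⟩, fun Z hZ hZK => ?_⟩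
  exact Submodule.finrank_mono (le_left_of_inv h.compl (hY u hu) hZ hZK)

theorem ES_TI (h : Φ.Dec W U) {X : Set (W ≃ₗ[F] W)} {Y : Set (U ≃ₗ[F] U)} {K : ℕ}
    (hY : ∀ y ∈ Y, ∀ Z : Submodule F U, Inv y Z → Z ≠ ⊥ → K < Module.finrank F Z)
    (hW : Module.finrank F W ≤ K) {g z : V ≃ₗ[F] V} (hz : z ∈ ES Φ h X Y)
    (hz' : g * z * g⁻¹ ∈ ES Φ h X Y) : Inv g W := by
  obtain ⟨w, hw, u, hu, hd, rfl⟩ := hz
  obtain ⟨w', hw', u', hu', hd', he⟩ := hz'
  have h1 : Inv (glue h.compl w' u') (W.map (g : V →ₗ[F] V)) := inv_conj he (inv_glue_left h.compl w u)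
  have h2 := le_left_of_inv h.compl (hY u' hu') h1 (by rw [finrank_map]; exact hW)
  intro v hv
  exact h2 ⟨v, hv, rfl⟩

/-- first count: `W` arbitrary of dimension at most `K` -/
theorem count_A (hΦ : IsHerm r Φ) (h : Φ.Dec W U) {Y : Set (U ≃ₗ[F] U)} {K : ℕ} (hYI : Y ⊆ (Φ.on U).Iso)
    (hY : ∀ y ∈ Y, ∀ Z : Submodule F U, Inv y Z → Z ≠ ⊥ → K < Module.finrank F Z)
    (hW : Module.finrank F W ≤ K) (hW0 : 0 < Module.finrank F W) :
    Nat.card (SU Φ) * Nat.card Y ≤ Nat.card (Φ.on U).Iso * Nat.card (CS Φ h ((Φ.on W).Iso : Set _) Y) := by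
  have hWh : IsHerm r (Φ.on W) := IsHerm.on hΦ (dec_nd_left hΦ.nd h)
  have := count (N := 1) hΦ h (X := ((Φ.on W).Iso : Set _)) hYI ?_ ?_
  · rwa [one_mul] at this
  · intro κ hκ
    rw [one_mul]
    obtain ⟨x, hx, hd⟩ := exists_det hWh hW0 hκ
    exact le_card_fib (Φ := Φ.on W) ⟨x, hx, hd⟩
  · intro g _ z hz hz'
    exact ES_TI h hY hW hz hz'

/-- second count: an irreducible block `W` of odd dimension `d₀ ≤ K` -/
theorem count_B (hΦ : IsHerm r Φ) (h : Φ.Dec W U) {Y : Set (U ≃ₗ[F] U)} {K : ℕ} (hYI : Y ⊆ (Φ.on U).Iso)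
    (hY : ∀ y ∈ Y, ∀ Z : Submodule F U, Inv y Z → Z ≠ ⊥ → K < Module.finrank F Z)
    (hW : Module.finrank F W ≤ K) (hW0 : 0 < Module.finrank F W)
    (hadj : ∀ κ : F, κ ^ (r + 1) = 1 → Nat.card (Φ.on W).Iso ≤ 4 * Module.finrank F W * (r + 1) *
      Nat.card {x : W ≃ₗ[F] W // x ∈ (Φ.on W).Bm ∧ LinearMap.det (x : W →ₗ[F] W) = κ}) :
    Nat.card (SU Φ) * Nat.card Y ≤
      4 * Module.finrank F W * Nat.card (Φ.on U).Iso * Nat.card (CS Φ h ((Φ.on W).Bm) Y) := by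
  have hWh : IsHerm r (Φ.on W) := IsHerm.on hΦ (dec_nd_left hΦ.nd h)
  refine count (N := 4 * Module.finrank F W) hΦ h (X := (Φ.on W).Bm) hYI ?_ ?_
  · intro κ hκ
    have h1 := card_SU_le hWh hW0
    have h2 := h1.trans (hadj κ hκ)
    have h3 : 4 * Module.finrank F W * (r + 1) *
      Nat.card {x : W ≃ₗ[F] W // x ∈ (Φ.on W).Bm ∧ LinearMap.det (x : W →ₗ[F] W) = κ} =
      (r + 1) * (4 * Module.finrank F W *
      Nat.card {x : W ≃ₗ[F] W // x ∈ (Φ.on W).Bm ∧ LinearMap.det (x : W →ₗ[F] W) = κ}) := by ring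
    rw [h3] at h2
    exact Nat.le_of_mul_le_mul_left h2 (by omega)
  · intro g _ z hz hz'
    exact ES_TI h hY hW hz hz'

theorem CS_sub {X : Set (W ≃ₗ[F] W)} {Y : Set (U ≃ₗ[F] U)} (h : Φ.Dec W U) {P : (V ≃ₗ[F] V) → Prop}
    (hP : ∀ g x : V ≃ₗ[F] V, P x → P (g * x * g⁻¹)) (hE : ∀ x ∈ ES Φ h X Y, P x) {y : V ≃ₗ[F] V}
    (hy : y ∈ CS Φ h X Y) : P y := by
  obtain ⟨g, -, x, hx, rfl⟩ := hy
  exact hP g x (hE x hx)

theorem CS_sub_SU (h : Φ.Dec W U) {X : Set (W ≃ₗ[F] W)} {Y : Set (U ≃ₗ[F] U)} (hX : X ⊆ (Φ.on W).Iso)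
    (hY : Y ⊆ (Φ.on U).Iso) : CS Φ h X Y ⊆ SU Φ := by
  rintro _ ⟨g, hg, x, hx, rfl⟩
  exact (SU Φ).mul_mem ((SU Φ).mul_mem hg (ES_sub_SU h hX hY hx)) ((SU Φ).inv_mem hg)

theorem Tp_good {m s : ℕ} {x : V ≃ₗ[F] V} (h : Tp m s x) (hs : s < m) {Y : Submodule F V} (hY : Inv x Y) :
    Module.finrank F Y ≠ m := by
  intro h1
  have := h.2 Y hY h1.le
  omega

/-- the elements of the second count have no invariant subspace of dimension `m < d₀` -/
theorem ES_B_good (h : Φ.Dec W U) {Y : Set (U ≃ₗ[F] U)} {K m : ℕ}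
    (hY : ∀ y ∈ Y, ∀ Z : Submodule F U, Inv y Z → Z ≠ ⊥ → K < Module.finrank F Z)
    (hm0 : 0 < m) (hmW : m < Module.finrank F W) (hmK : m ≤ K) {z : V ≃ₗ[F] V}
    (hz : z ∈ ES Φ h ((Φ.on W).Bm) Y) {Z : Submodule F V} (hZ : Inv z Z) : Module.finrank F Z ≠ m := by
  obtain ⟨w, hw, u, hu, hd, rfl⟩ := hz
  intro hZm
  have h1 := le_left_of_inv h.compl (hY u hu) hZ (by omega)
  let Z' : Submodule F W := Z.comap W.subtype
  have h2 : Inv w Z' := by
    intro x hx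
    have h3 := hZ x hx
    rw [glue_left] at h3
    exact h3
  have h3 : Module.finrank F Z' = Module.finrank F Z := by
    have : Z'.map W.subtype = Z := by
      rw [Submodule.map_comap_subtype]; exact inf_eq_right.2 h1
    rw [← this]
    exact (Submodule.finrank_map_subtype_eq W Z').symm
  rcases hw.2.min Z' le_top h2 with h4 | h4
  · rw [h4, finrank_bot] at h3; omega
  · rw [h4, finrank_top] at h3; omega

/-! ### one large irreducible block -/

/-- `d` is the largest dimension of an irreducible invariant subspace, and there is no invariant subspace of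
dimension `m` -/
def Ti (m d : ℕ) (x : V ≃ₗ[F] V) : Prop :=
  (∃ Y : Submodule F V, Irr x Y ∧ Module.finrank F Y = d) ∧
    (∀ Y : Submodule F V, Irr x Y → Module.finrank F Y ≤ d) ∧
    ∀ Y : Submodule F V, Inv x Y → Module.finrank F Y ≠ m

theorem irr_conj {g z z' : V ≃ₗ[F] V} (he : g * z * g⁻¹ = z') {Y : Submodule F V} (h : Irr z Y) :
    Irr z' (Y.map (g : V →ₗ[F] V)) where
  inv := inv_conj he h.inv
  ne_bot := by
    intro h1
    apply h.ne_bot
    rw [← Submodule.finrank_eq_zero (R := F), ← finrank_map g Y, h1, finrank_bot]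
  min := by
    intro Z hZ hi
    subst he
    have h1 := inv_back hi
    have h2 : Z.map ((g⁻¹ : V ≃ₗ[F] V) : V →ₗ[F] V) ≤ Y := by
      rintro _ ⟨v, hv, rfl⟩
      obtain ⟨y, hy, rfl⟩ := hZ hv
      have : g⁻¹ (g y) = y := g.symm_apply_apply y
      show g⁻¹ (g y) ∈ Y
      rw [this]; exact hy
    rcases h.min _ h2 h1 with h3 | h3
    · left
      rw [← Submodule.finrank_eq_zero (R := F), ← finrank_map g⁻¹ Z, h3, finrank_bot]
    · right
      apply Submodule.eq_of_le_of_finrank_eq hZ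
      rw [finrank_map, ← finrank_map g⁻¹ Z, h3]

theorem irr_back {g z : V ≃ₗ[F] V} {Y : Submodule F V} (h : Irr (g * z * g⁻¹) Y) :
    Irr z (Y.map ((g⁻¹ : V ≃ₗ[F] V) : V →ₗ[F] V)) :=
  irr_conj (g := g⁻¹) (z := g * z * g⁻¹) (by group) h

theorem Ti.conj {m d : ℕ} {x : V ≃ₗ[F] V} (h : Ti m d x) (g : V ≃ₗ[F] V) : Ti m d (g * x * g⁻¹) := by
  obtain ⟨⟨Y, hY, hYs⟩, h2, h3⟩ := h
  refine ⟨⟨_, irr_conj rfl hY, (finrank_map g Y).trans hYs⟩, fun Z hZ => ?_, fun Z hZ => ?_⟩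
  · have h4 := h2 _ (irr_back hZ)
    rwa [finrank_map] at h4
  · have h4 := h3 _ (inv_back hZ)
    rwa [finrank_map] at h4

theorem Ti.unique {m d d' : ℕ} {x : V ≃ₗ[F] V} (h : Ti m d x) (h' : Ti m d' x) : d = d' := by
  obtain ⟨⟨Y, hY, hYs⟩, h2, -⟩ := h
  obtain ⟨⟨Y', hY', hYs'⟩, h2', -⟩ := h'
  have h3 := h2 Y' hY'
  have h4 := h2' Y hY
  omega

/-- a subspace meeting `U` trivially has dimension at most `dim W` -/
theorem finrank_le_of_disj (h : IsCompl W U) {Z : Submodule F V} (hZ : Z ⊓ U = ⊥) :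
    Module.finrank F Z ≤ Module.finrank F W := by
  have h1 := Submodule.finrank_sup_add_finrank_inf_eq Z U
  rw [hZ, finrank_bot, add_zero] at h1
  have h2 := Submodule.finrank_le (Z ⊔ U)
  have h3 := Submodule.finrank_add_eq_of_isCompl h
  omega

theorem inv_inf {x : V ≃ₗ[F] V} {Y Z : Submodule F V} (hY : Inv x Y) (hZ : Inv x Z) : Inv x (Y ⊓ Z) :=
  fun v hv => ⟨hY v hv.1, hZ v hv.2⟩

theorem irr_glue_right (h : IsCompl W U) (w : W ≃ₗ[F] W) {u : U ≃ₗ[F] U} (hu : Irr u ⊤) :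
    Irr (glue h w u) U where
  inv := inv_glue_right h w u
  ne_bot := by
    rintro rfl
    exact hu.ne_bot ((Submodule.eq_bot_iff _).2 fun x _ => Subsingleton.elim x 0)
  min := by
    intro Z hZ hi
    have h2 : Inv u (Z.comap U.subtype) := by
      intro x hx
      have h3 := hi x hx
      rw [glue_right] at h3
      exact h3
    rcases hu.min _ le_top h2 with h4 | h4
    · left
      rw [Submodule.eq_bot_iff]
      intro x hx
      have : (⟨x, hZ hx⟩ : U) ∈ Z.comap U.subtype := hx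
      rw [h4, Submodule.mem_bot] at this
      exact congrArg Subtype.val this
    · right
      apply le_antisymm hZ
      intro x hx
      have : (⟨x, hx⟩ : U) ∈ Z.comap U.subtype := by rw [h4]; trivial
      exact this

theorem ES_Ti (h : Φ.Dec W U) {X : Set (W ≃ₗ[F] W)} {m : ℕ}
    (hWU : Module.finrank F W < Module.finrank F U) (hm : Module.finrank F W < m)
    (hmU : m < Module.finrank F U)
    {z : V ≃ₗ[F] V} (hz : z ∈ ES Φ h X ((Φ.on U).Bm)) : Ti m (Module.finrank F U) z := by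
  obtain ⟨w, hw, u, hu, hd, rfl⟩ := hz
  have hirr := irr_glue_right h.compl w hu.2
  refine ⟨⟨U, hirr, rfl⟩, fun Z hZ => ?_, fun Z hZ hZm => ?_⟩
  · rcases hZ.min (Z ⊓ U) inf_le_left (inv_inf hZ.inv hirr.inv) with h1 | h1
    · exact (finrank_le_of_disj h.compl h1).trans hWU.le
    · exact Submodule.finrank_mono (inf_eq_left.1 h1)
  · rcases hirr.min (Z ⊓ U) inf_le_right (inv_inf hZ hirr.inv) with h1 | h1
    · have := finrank_le_of_disj h.compl h1
      omega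
    · have := Submodule.finrank_mono (R := F) (inf_eq_right.1 h1)
      omega

/-- third count: one large irreducible block -/
theorem count_C (hΦ : IsHerm r Φ) (h : Φ.Dec W U)
    (hWU : Module.finrank F W < Module.finrank F U) (hW0 : 0 < Module.finrank F W) :
    Nat.card (SU Φ) * Nat.card ((Φ.on U).Bm) ≤
      Nat.card (Φ.on U).Iso * Nat.card (CS Φ h ((Φ.on W).Iso : Set _) ((Φ.on U).Bm)) := by
  have hWh : IsHerm r (Φ.on W) := IsHerm.on hΦ (dec_nd_left hΦ.nd h)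
  have := count (N := 1) hΦ h (X := ((Φ.on W).Iso : Set _)) (Y := (Φ.on U).Bm) (fun y hy => hy.1) ?_ ?_
  · rwa [one_mul] at this
  · intro κ hκ
    rw [one_mul]
    obtain ⟨x, hx, hd⟩ := exists_det hWh hW0 hκ
    exact le_card_fib (Φ := Φ.on W) ⟨x, hx, hd⟩
  · intro g hg z hz hz'
    obtain ⟨w, hw, u, hu, hd, rfl⟩ := hz
    obtain ⟨w', hw', u', hu', hd', he⟩ := hz'
    have h1 := irr_conj he (irr_glue_right h.compl w hu.2)
    have h2 := irr_glue_right h.compl w' hu'.2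
    have h3 : U.map (g : V →ₗ[F] V) ≤ U := by
      rcases h1.min (U.map (g : V →ₗ[F] V) ⊓ U) inf_le_left (inv_inf h1.inv h2.inv) with h4 | h4
      · have := finrank_le_of_disj h.compl h4
        rw [finrank_map] at this
        omega
      · exact inf_eq_left.1 h4
    have h4 : Inv g U := fun v hv => h3 ⟨v, hv, rfl⟩
    exact inv_of_inv hΦ.nd (Dec.symm h) hg h4

end Herm

end Cfsg.Agent.H557.Bs
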